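import Cfsg.Agent.MK.Y.CoreI_m3
import Cfsg.Agent.H980.GSet
import Cfsg.Agent.S0205
import Cfsg.Agent.SignalizersComponents.Components
import Cfsg.Agent.S0866
import Cfsg.Agent.ODD.Red.Bas
import Cfsg.Agent.S0887
import Cfsg.Agent.S0900
import Cfsg.Agent.CharactersDeep.IndFun
import Cfsg.Agent.MK.C.Main_m3
import Cfsg.Agent.MK.S5.Mov_m3
import Cfsg.Agent.FastGrp
import Cfsg.Agent.Prune
set_option linter.all false

section
prune_inst 0x7f00000000000000000000000000000000000000000000000000000000000000000000000000000000000000000000000000000000000000000000000000000000000000000000000000000000000000003fffffffffffffffffffffffffffbeffbdfbfeffff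

-- part: MK/E/Cyc
section
prune_inst 0x4010000
set_option linter.all false
open scoped Cfsg.Agent.FastGrp

/-!
# MK/E: `extOn_cyc`, `exists_cd`, `stepCyc`, `stepSm` (helper75)

* `extOn_cyc` : `S` cyclic modulo the inner automorphisms;
* `exists_equi` : equal marks give an equivariant bijection `SA → SB`;
* `stepC_marks` : the Clifford step from equal marks and an extension property for all pairs with the same stabiliser;
* `stepCyc`, `stepSm`.
-/

set_option autoImplicit false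

namespace Cfsg.Agent.MK.E

open Cfsg Subgroup Cfsg.Agent.MK Cfsg.Agent.Characters.Core
open scoped ComplexConjugate

variable {X : Type} [Group X] {Γ Λ S : Subgroup (MulAut X)}

/-- **the cyclic case of `ExtOn`** -/
theorem extOn_cyc [Finite X] (hS : S ≤ Λ) {θ : X → ℂ} {ψ : In Λ → ℂ} (hθ : IsIrrCharacter X θ)
    (hψ : IsIrrCharacter (In Λ) ψ) (hz : Sc Λ θ ψ) {γ : MulAut X} (hγ : γ ∈ S) (hθγ : ∀ x, θ (γ x) = θ x)
    (hψγ : ∀ y y' : In Λ, (y' : X) = γ y → ψ y' = ψ y)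
    (hgen : ∀ α ∈ S, ∃ (k : ℕ) (x : X), α = MulAut.conj x * γ ^ k) : ExtOn Λ S θ ψ := by
  obtain ⟨A, _, j, t, Ψ, hΨ, w, hj⟩ := exists_wit_inn (S := Cj (In Λ)) (isIrr_isCharacter hθ) (isIrr_isCharacter hψ)
    hz le_rfl
  refine ext_meta hS w hΨ hθ hψ hj (fun k _ => ⟨k, k.2, rfl⟩) hγ (fun α hα => ?_) fun β _ => ?_
  · obtain ⟨k, x, hx⟩ := hgen α hα
    refine ⟨_, ⟨x, ?_, rfl⟩, k, hx⟩
    change MulAut.conj x ∈ Λ
    rw [eq_mul_inv_of_mul_eq hx.symm]
    exact hS (mul_mem hα (inv_mem (pow_mem hγ k)))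
  · obtain ⟨_, k, hk, rfl⟩ := β
    refine ⟨⟨_, γ k, map_mem_In (hS hγ) hk, rfl⟩, conj_map γ k, fun x y y' hy => ?_⟩
    have e1 := w.inn ⟨k, hk⟩ ⟨k, hk, rfl⟩
    have e2 := w.inn ⟨γ k, map_mem_In (hS hγ) hk⟩ ⟨γ k, map_mem_In (hS hγ) hk, rfl⟩
    refine ((congrArg (fun u => Ψ (j (γ x, y') * u)) e2).trans ?_).trans
      (congrArg (fun u => Ψ (j (x, y) * u)) e1).symm
    rw [← map_mul, ← map_mul, Prod.mk_mul_mk, Prod.mk_mul_mk, hj, hj,
      ← map_mul γ, hθγ, hψγ (y * ⟨k, hk⟩) _ (by rw [coe_mul, coe_mul, map_mul, hy])]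

theorem normal_inn : (MulAut.conj : X →* MulAut X).range.Normal :=
  ⟨by rintro _ ⟨x, rfl⟩ α; exact ⟨α x, conj_map α x⟩⟩

/-- a subgroup of a group which is cyclic modulo the inner automorphisms has a generator -/
theorem cyc_sub [Finite X] {γ : MulAut X} {L : Subgroup (MulAut X)}
    (h : ∀ α ∈ L, ∃ (k : ℕ) (x : X), α = MulAut.conj x * γ ^ k) :
    ∃ δ ∈ L, ∀ α ∈ L, ∃ (k : ℕ) (x : X), α = MulAut.conj x * δ ^ k := by
  have := normal_inn (X := X)
  let π := QuotientGroup.mk' (MulAut.conj : X →* MulAut X).range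
  have h1 : L.map π ≤ zpowers (π γ) := by
    rintro _ ⟨α, hα, rfl⟩
    obtain ⟨k, x, rfl⟩ := h α hα
    have h2 : π (MulAut.conj x) = 1 := (QuotientGroup.eq_one_iff _).2 ⟨x, rfl⟩
    rw [map_mul, h2, one_mul, map_pow]
    exact npow_mem_zpowers _ _
  obtain ⟨n, hn⟩ := (le_zpowers_iff _ _).1 h1
  obtain ⟨δ, hδ, e⟩ : π γ ^ n ∈ L.map π := hn ▸ mem_zpowers _
  refine ⟨δ, hδ, fun α hα => ?_⟩
  have h2 : π α ∈ zpowers (π δ) := by
    rw [e, ← hn]
    exact mem_map_of_mem _ hα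
  obtain ⟨k, hk⟩ := mem_powers_iff_mem_zpowers.2 h2
  have h3 : π (α * (δ ^ k)⁻¹) = 1 := by
    rw [map_mul, map_inv, map_pow, ← show π δ ^ k = π α from hk, mul_inv_cancel]
  obtain ⟨x, hx⟩ := (QuotientGroup.eq_one_iff _).1 h3
  exact ⟨k, x, by rw [hx, inv_mul_cancel_right]⟩

theorem conj_mul_pow (x : X) (β : MulAut X) (m : ℕ) : ∃ y : X, (MulAut.conj x * β) ^ m = MulAut.conj y * β ^ m := by
  induction m with
  | zero => exact ⟨1, by simp⟩
  | succ m ih =>
    obtain ⟨y, hy⟩ := ih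
    refine ⟨x * β y, ?_⟩
    rw [pow_succ', hy, map_mul, conj_map, pow_succ']
    group

theorem oi_comp {G : Type} [Group G] {χ : G → ℂ} (h : OI G χ) (α : MulAut G) : OI G fun x => χ (α x) := by
  refine ⟨isIrr_comp α.toMonoidHom α.surjective h.1, ?_⟩
  have h2 := h.2
  unfold charDegree at h2 ⊢
  simpa only [map_one] using h2

theorem sa_comp (hf : ∀ α ∈ Λ, ∀ z ∈ center X, α z = z) {l θ : X → ℂ} (h : θ ∈ SA Λ l) {α : MulAut X} (hα : α ∈ Λ) :
    (fun x => θ (α x)) ∈ SA Λ l := by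
  refine ⟨oi_comp h.1 α, fun z hz => by simp only [hf α hα z hz, map_one, h.2.1 z hz], fun β hβ ⟨k, hk⟩ x => ?_⟩
  have h1 := h.2.2 (α * β * α⁻¹) (mul_mem (mul_mem hα hβ) (inv_mem hα)) ⟨k, by rw [conj_pow, hk]; simp⟩ (α x)
  simpa using h1

theorem sb_comp (hf : ∀ α ∈ Λ, ∀ z ∈ center X, α z = z) {l : X → ℂ} {ψ : In Λ → ℂ} (h : ψ ∈ SB Λ l) (α : Λ) :
    (fun y => ψ (rs Λ α y)) ∈ SB Λ l := by
  refine ⟨oi_comp h.1 (rs Λ α), fun z hz => ?_, fun β ⟨k, hk⟩ y => ?_⟩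
  · have h1 : rs Λ α z = z := Subtype.ext (hf α α.2 z hz)
    simp only [h1, map_one, h.2.1 z hz]
  · have h1 := h.2.2 (α * β * α⁻¹) ⟨k, by rw [conj_pow, hk]; simp⟩ (rs Λ α y)
    simpa using h1

/-- the action on `SA` -/
@[reducible] def actA (hf : ∀ α ∈ Λ, ∀ z ∈ center X, α z = z) (l : X → ℂ) : MulAction Λ (SA Λ l) where
  smul α θ := ⟨fun x => θ.1 (α⁻¹.1 x), sa_comp hf θ.2 α⁻¹.2⟩
  one_smul _ := rfl
  mul_smul _ _ _ := rfl

/-- the action on `SB` -/
@[reducible] def actB (hf : ∀ α ∈ Λ, ∀ z ∈ center X, α z = z) (l : X → ℂ) : MulAction Λ (SB Λ l) where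
  smul α ψ := ⟨fun y => ψ.1 (rs Λ α⁻¹ y), sb_comp hf ψ.2 α⁻¹⟩
  one_smul _ := rfl
  mul_smul _ _ _ := rfl

theorem finite_oi {G : Type} [Group G] [Finite G] {s : Set (G → ℂ)} (h : ∀ χ ∈ s, OI G χ) : Finite s := by
  have := finite_irr (G := G)
  exact Finite.of_injective (fun χ : s => (⟨χ.1, (h _ χ.2).1⟩ : IrrCharacter G))
    fun a b e => Subtype.ext (congrArg (fun u : IrrCharacter G => u.1) e)

/-- the number of the members of `SA` which are fixed by `L` -/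
noncomputable def mA (Λ L : Subgroup (MulAut X)) (l : X → ℂ) : ℕ :=
  Nat.card {θ : X → ℂ // θ ∈ SA Λ l ∧ ∀ α ∈ L, ∀ x, θ (α x) = θ x}

/-- the number of the members of `SB` which are fixed by `L` -/
noncomputable def mB (Λ L : Subgroup (MulAut X)) (l : X → ℂ) : ℕ :=
  Nat.card {ψ : In Λ → ℂ // ψ ∈ SB Λ l ∧ ∀ α ∈ L, ∀ y y' : In Λ, (y' : X) = α y → ψ y' = ψ y}

/-- **equal marks give an equivariant bijection** -/
theorem exists_equi [Finite X] (hf : ∀ α ∈ Λ, ∀ z ∈ center X, α z = z) (l : X → ℂ)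
    (h : ∀ L ≤ Λ, mA Λ L l = mB Λ L l) : ∃ Ω : (X → ℂ) → In Λ → ℂ, Set.BijOn Ω (SA Λ l) (SB Λ l) ∧
      ∀ θ ∈ SA Λ l, ∀ (α : Λ) (y : In Λ), Ω (fun x => θ (α.1 x)) y = Ω θ (rs Λ α y) := by
  classical
  let _ := actA hf l
  let _ := actB hf l
  have := finite_oi (s := SA Λ l) fun _ h => h.1
  have := finite_oi (s := SB Λ l) fun _ h => h.1
  obtain ⟨e, he⟩ := H980.exists_equiv_of_mark_eq (D := Λ) (SA Λ l) (SB Λ l) fun L => by
    have h1 : H980.mark (SA Λ l) L = mA Λ (L.map Λ.subtype) l := by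
      refine Nat.card_congr ⟨fun θ => ⟨θ.1.1, θ.1.2, ?_⟩, fun θ => ⟨⟨θ.1, θ.2.1⟩, fun α hα => ?_⟩, fun _ => rfl,
        fun _ => rfl⟩
      · rintro _ ⟨α, hα, rfl⟩ x
        exact congrFun (congrArg Subtype.val (θ.2 α⁻¹ (inv_mem hα))) x
      · exact Subtype.ext (funext fun x => θ.2.2 _ ⟨α⁻¹, inv_mem hα, rfl⟩ x)
    have h2 : H980.mark (SB Λ l) L = mB Λ (L.map Λ.subtype) l := by
      refine Nat.card_congr ⟨fun ψ => ⟨ψ.1.1, ψ.1.2, ?_⟩, fun ψ => ⟨⟨ψ.1, ψ.2.1⟩, fun α hα => ?_⟩, fun _ => rfl,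
        fun _ => rfl⟩
      · rintro _ ⟨α, hα, rfl⟩ y y' hy
        rw [show y' = rs Λ α y from Subtype.ext hy]
        exact congrFun (congrArg Subtype.val (ψ.2 α⁻¹ (inv_mem hα))) y
      · exact Subtype.ext (funext fun y => ψ.2.2 _ ⟨α⁻¹, inv_mem hα, rfl⟩ y _ rfl)
    rw [h1, h2]
    exact h _ (map_subtype_le L)
  let Ω : (X → ℂ) → In Λ → ℂ := fun θ => if h : θ ∈ SA Λ l then (e ⟨θ, h⟩).1 else 0
  have hΩ : ∀ θ (h : θ ∈ SA Λ l), Ω θ = (e ⟨θ, h⟩).1 := fun θ h => dif_pos h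
  refine ⟨Ω, ⟨fun θ h => hΩ θ h ▸ (e ⟨θ, h⟩).2, fun θ h θ' h' hh => ?_, fun ψ h => ?_⟩, fun θ h α y => ?_⟩
  · rw [hΩ θ h, hΩ θ' h'] at hh
    exact congrArg Subtype.val (e.injective (Subtype.ext hh))
  · refine ⟨(e.symm ⟨ψ, h⟩).1, (e.symm ⟨ψ, h⟩).2, ?_⟩
    rw [hΩ _ (e.symm ⟨ψ, h⟩).2]
    exact congrArg Subtype.val (e.apply_symm_apply ⟨ψ, h⟩)
  · rw [hΩ _ (sa_comp hf h α.2), hΩ θ h]
    exact congrFun (congrArg Subtype.val (he α⁻¹ ⟨θ, h⟩)) y

/-- from an equivariant bijection: the stabiliser of `θ` fixes `Ω θ` -/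
theorem st_fix {l : X → ℂ} {Ω : (X → ℂ) → In Λ → ℂ}
    (h : ∀ θ ∈ SA Λ l, ∀ (α : Λ) (y : In Λ), Ω (fun x => θ (α.1 x)) y = Ω θ (rs Λ α y)) {θ : X → ℂ}
    (hθ : θ ∈ SA Λ l) {α : MulAut X} (hα : α ∈ St Λ θ) (y y' : In Λ) (hy : (y' : X) = α y) : Ω θ y' = Ω θ y := by
  rw [show y' = rs Λ ⟨α, hα.1⟩ y from Subtype.ext hy, ← h θ hθ, funext hα.2]

/-- **equal marks and the extension property for all invariant pairs give `CD`** -/
theorem exists_cd [Finite X] (hf : ∀ α ∈ Λ, ∀ z ∈ center X, α z = z) (l : X → ℂ)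
    (h : ∀ L ≤ Λ, mA Λ L l = mB Λ L l)
    (hx : ∀ θ ∈ SA Λ l, ∀ ψ ∈ SB Λ l, (∀ α ∈ St Λ θ, ∀ y y' : In Λ, (y' : X) = α y → ψ y' = ψ y) →
      ExtOn Λ (St Λ θ) θ ψ) : ∃ Ω, CD Λ l Ω := by
  obtain ⟨Ω, h1, h2⟩ := exists_equi hf l h
  exact ⟨Ω, h1, h2, fun θ hθ => hx θ hθ _ (h1.1 hθ) fun α hα => st_fix h2 hθ hα⟩

theorem fix_pow {θ : X → ℂ} (hθ : IsClassFunction X θ) {δ : MulAut X} (h : ∀ x, θ (δ x) = θ x) (k : ℕ) (x y : X) :
    θ ((MulAut.conj x * δ ^ k) y) = θ y := by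
  refine (hθ _ x).trans ?_
  induction k with
  | zero => rfl
  | succ k ih => rw [pow_succ']; exact (h _).trans ih

theorem fix_pow' {ψ : In Λ → ℂ} (hψ : IsClassFunction (In Λ) ψ) {δ : Λ} (h : ∀ y, ψ (rs Λ δ y) = ψ y) {k : ℕ} {x : X}
    {α : Λ} (e : α.1 = MulAut.conj x * δ.1 ^ k) (y : In Λ) : ψ (rs Λ α y) = ψ y := by
  have hx : x ∈ In Λ := by
    change MulAut.conj x ∈ Λ
    rw [eq_mul_inv_of_mul_eq e.symm]
    exact mul_mem α.2 (inv_mem (pow_mem δ.2 k))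
  have h1 : rs Λ α y = ⟨x, hx⟩ * rs Λ (δ ^ k) y * ⟨x, hx⟩⁻¹ := Subtype.ext (by rw [rs_coe, e]; rfl)
  rw [h1, hψ]
  clear h1 e
  induction k with
  | zero => rw [pow_zero, map_one]; rfl
  | succ k ih => rw [pow_succ', map_mul]; exact (h _).trans ih

/-- **the cyclic step** -/
theorem stepCyc (h : StepC) : StepCyc := by
  intro X _ _ Γ Λ s sp ⟨γ, _, hγ⟩ hc
  have hf : ∀ α ∈ Λ, ∀ z ∈ center X, α z = z := fun α hα => s.fix α (sp.le hα)
  refine h X Γ Λ s sp fun l hl => exists_cd hf l (fun L hL => ?_) fun θ hθ ψ hψ hfix => ?_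
  · let T : Set (MulAut X) := {α | α ∈ Λ ∧ ∃ k : ℕ, α ^ 2 ^ k = 1}
    have hL' : L ⊔ Subgroup.closure T ≤ Λ := sup_le hL ((closure_le _).2 fun α hα => hα.1)
    obtain ⟨δ, hδ, hg⟩ := cyc_sub (γ := γ) (L := L ⊔ Subgroup.closure T) fun α hα => hγ α (sp.le (hL' hα))
    have hT : ∀ α ∈ Λ, (∃ k : ℕ, α ^ 2 ^ k = 1) → α ∈ L ⊔ Subgroup.closure T := fun α h1 h2 =>
      mem_sup_right (subset_closure ⟨h1, h2⟩)
    have hb : Big Γ δ := by
      intro β hβ
      obtain ⟨x, β', hβ', rfl⟩ := sp.sup β hβ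
      obtain ⟨k, m, hm, e⟩ := Nat.exists_eq_two_pow_mul_odd (orderOf_pos β').ne'
      obtain ⟨n, y, hy⟩ := hg (β' ^ m) (hT _ (pow_mem hβ' m) ⟨k, by rw [← pow_mul, mul_comm, ← e, pow_orderOf_eq_one]⟩)
      obtain ⟨z, hz⟩ := conj_mul_pow x β' m
      exact ⟨m, n, z * y, hm, by rw [hz, hy, map_mul, mul_assoc]⟩
    have h1 : mA Λ L l = fA l δ := by
      refine Nat.card_congr (Equiv.subtypeEquivRight fun θ => ⟨fun hθ => ⟨hθ.1.1, hθ.1.2.1, ?_⟩, fun hθ => ?_⟩)
      · have h2 : L ⊔ Subgroup.closure T ≤ St Λ θ :=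
          sup_le (fun α hα => ⟨hL hα, hθ.2 α hα⟩) ((closure_le _).2 fun α hα => ⟨hα.1, hθ.1.2.2 α hα.1 hα.2⟩)
        exact (h2 hδ).2
      · have h2 : ∀ α ∈ L ⊔ Subgroup.closure T, ∀ x, θ (α x) = θ x := fun α hα x => by
          obtain ⟨k, y, rfl⟩ := hg α hα
          exact fix_pow (isIrr_isClassFunction hθ.1.1) hθ.2.2 k y x
        exact ⟨⟨hθ.1, hθ.2.1, fun α h3 h4 => h2 α (hT α h3 h4)⟩, fun α hα => h2 α (mem_sup_left hα)⟩
    have h2 : mB Λ L l = fB (In Λ) l δ := by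
      refine Nat.card_congr (Equiv.subtypeEquivRight fun ψ => ⟨fun hψ => ⟨hψ.1.1, hψ.1.2.1, ?_⟩, fun hψ => ?_⟩)
      · have h2 : L ⊔ Subgroup.closure T ≤ ((St ⊤ ψ).comap (rs Λ)).map Λ.subtype :=
          sup_le (fun α hα => ⟨⟨α, hL hα⟩, ⟨trivial, fun y => hψ.2 α hα y _ rfl⟩, rfl⟩)
            ((closure_le _).2 fun α hα => ⟨⟨α, hα.1⟩, ⟨trivial, hψ.1.2.2 ⟨α, hα.1⟩
              (hα.2.imp fun k hk => Subtype.ext hk)⟩, rfl⟩)
        obtain ⟨δ', h3, rfl⟩ := h2 hδ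
        intro y y' hy
        rw [show y' = rs Λ δ' y from Subtype.ext hy]
        exact h3.2 y
      · have h2 : ∀ α : Λ, α.1 ∈ L ⊔ Subgroup.closure T → ∀ y, ψ (rs Λ α y) = ψ y := fun α hα y => by
          obtain ⟨k, x, e⟩ := hg α hα
          exact fix_pow' (δ := ⟨δ, hL' hδ⟩) (isIrr_isClassFunction hψ.1.1) (fun y => hψ.2.2 y _ rfl) e y
        refine ⟨⟨hψ.1, hψ.2.1, fun α h4 => h2 α (hT α α.2 (h4.imp fun k hk => congrArg Subtype.val hk))⟩,
          fun α hα y y' hy => ?_⟩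
        rw [show y' = rs Λ ⟨α, hL hα⟩ y from Subtype.ext hy]
        exact h2 ⟨α, hL hα⟩ (mem_sup_left hα) y
    rw [h1, h2]
    exact hc l hl δ (hL' hδ) hb
  · obtain ⟨δ, hδ, hg⟩ := cyc_sub (γ := γ) (L := St Λ θ) fun α hα => hγ α (sp.le hα.1)
    exact extOn_cyc (S := St Λ θ) (fun α hα => hα.1) hθ.1.1 hψ.1.1 (sc_of hθ.1.1 hθ.2.1 hψ.2.1) hδ hδ.2 (hfix δ hδ) hg

theorem index_center_le [Finite X] (h : ∀ x : X, MulAut.conj x ∈ Γ) : (center X).index ≤ Nat.card Γ := by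
  have h1 : (MulAut.conj : X →* MulAut X).ker = center X := Subgroup.ext fun x => conj_eq_one_iff
  rw [← h1, index_ker]
  exact card_le_of_le (by rintro _ ⟨x, rfl⟩; exact h x)

theorem in_nm (h : ∀ x : X, MulAut.conj x ∈ Γ) (Q : Subgroup X) : In (Nm Γ Q) = normalizer (Q : Set X) := by
  ext x
  rw [mem_normalizer_iff]
  exact ⟨fun hx y => (hx.2 y).symm, fun hx => ⟨h x, fun y => (hx y).symm⟩⟩

/-- the Frattini argument -/
theorem supp_nm [Finite X] (h : ∀ x : X, MulAut.conj x ∈ Γ) {p : ℕ} [Fact p.Prime] (Q : Sylow p X) :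
    Supp Γ (Nm Γ Q) := by
  refine ⟨fun α hα => hα.1, fun α hα => ?_⟩
  obtain ⟨x, hx⟩ := MulAction.exists_smul_eq X Q (α • Q)
  refine ⟨x, (MulAut.conj x)⁻¹ * α, ⟨mul_mem (inv_mem (h x)) hα, fun y => ?_⟩, by group⟩
  have h1 : α y ∈ ((α • Q : Sylow p X) : Subgroup X) ↔ y ∈ (Q : Subgroup X) := by
    rw [Sylow.pointwise_smul_def]
    exact smul_mem_pointwise_smul_iff (a := α)
  rw [← h1, ← hx, Sylow.coe_subgroup_smul, mem_pointwise_smul_iff_inv_smul_mem]
  rfl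

theorem nm_ne [Finite X] (s : Sit X Γ) (Q : Sylow 2 X) : Nm Γ Q ≠ Γ := by
  intro h
  have hn : (Q : Subgroup X).Normal := ⟨fun y hy x => ((h.ge (s.inn x)).2 y).2 hy⟩
  apply SignalizersComponents.Components.quasisimple_not_isSolvable s.qs
  rcases SignalizersComponents.Components.quasisimple_normal s.qs _ hn with h1 | h1
  · have h2 : IsPGroup 2 X := (h1 ▸ Q.isPGroup' : IsPGroup 2 (⊤ : Subgroup X)).of_equiv topEquiv
    have := h2.isNilpotent
    infer_instance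
  · refine S0205.result ?_
    have h2 : Odd (Nat.card Q) := s.odd.of_dvd_nat (card_dvd_of_le h1)
    rw [← (Q : Subgroup X).card_mul_index]
    exact h2.mul (Nat.odd_iff.2 (Nat.two_dvd_ne_zero.1 Q.not_dvd_index))

/-- **the small rows** -/
theorem stepSm (h : StepCyc) : StepSm := by
  intro X _ _ Γ s hs
  obtain ⟨⟨γ, hγ⟩, Q, hQ⟩ := hs fun G _ _ Z hZ hi => s.ih G Z hZ (hi.trans_le (index_center_le s.inn))
  refine ⟨Nm Γ Q, Q, fun α hα => hα.1, nm_ne s Q, le_rfl, h X Γ _ s (supp_nm s.inn Q)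
    (cyc_sub (γ := γ) fun α hα => hγ α (s.fix α hα)) fun l hl α hα _ => ?_⟩
  rw [in_nm s.inn]
  exact hQ l hl α (s.fix α hα.1) hα.2

end Cfsg.Agent.MK.E
end

-- part: MK/E/Ext
section
prune_inst 0x4010000
set_option linter.all false
open scoped Cfsg.Agent.FastGrp

/-!
# MK/E: criteria for `ExtOn` (helper75)

* `extOn_sylow` : it is enough to consider subgroups of prime power order;
* `extOn_of_ext` : `θ` and `ψ` extend to groups which induce `S`;
* `ExS φ θ` : `θ` extends to the semidirect product; `exS_of`, `exS_coprime`, `exS_cyc`;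
* `extOn_split`, `extOn_coprime`, `extOn_two` : the split case;
* `extOn_meta` : extensions to `B`, `C` which an automorphism twists by the same function;
* `ExtOn.conj`.
-/

set_option autoImplicit false

namespace Cfsg.Agent.MK.E

open Cfsg Subgroup Cfsg.Agent.MK Cfsg.Agent.Characters.Core
open scoped ComplexConjugate

section exs

variable {H P : Type} [Group H] [Group P] {φ : P →* MulAut H} {θ : H → ℂ}

/-- `θ` extends to the semidirect product -/
def ExS (φ : P →* MulAut H) (θ : H → ℂ) : Prop :=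
  ∃ Θ : H ⋊[φ] P → ℂ, IsCharacter (H ⋊[φ] P) Θ ∧ ∀ x, Θ (SemidirectProduct.inl x) = θ x

theorem exS_of {B : Type} [Group B] (i : H →* B) (t : P →* B) (h : ∀ p x, t p * i x = i (φ p x) * t p) {Θ : B → ℂ}
    (hΘ : IsCharacter B Θ) (hi : ∀ x, Θ (i x) = θ x) : ExS φ θ := by
  refine ⟨_, isCharacter_comp (SemidirectProduct.lift i t fun p => MonoidHom.ext fun x => ?_) hΘ, fun x => ?_⟩
  · change i (φ p x) = t p * i x * (t p)⁻¹
    rw [h, mul_inv_cancel_right]
  · simp [hi]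

theorem ExS.comp {P' : Type} [Group P'] (h : ExS φ θ) (f : P' →* P) : ExS (φ.comp f) θ := by
  obtain ⟨Θ, hΘ, h⟩ := h
  refine exS_of SemidirectProduct.inl (SemidirectProduct.inr.comp f) (fun p x => ?_) hΘ h
  simp only [MonoidHom.comp_apply]
  rw [SemidirectProduct.inl_aut, map_inv, inv_mul_cancel_right]

/-- the normal factor -/
def NS (φ : P →* MulAut H) : Subgroup (H ⋊[φ] P) := SemidirectProduct.rightHom.ker

theorem normal_NS : (NS φ).Normal := MonoidHom.normal_ker _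

theorem index_NS : (NS φ).index = Nat.card P := by
  rw [NS, index_ker, MonoidHom.range_eq_top.2 SemidirectProduct.rightHom_surjective, card_top]

/-- the projection of the normal factor -/
def lf : NS φ →* H :=
  MonoidHom.mk' (fun g => g.1.left) fun g h => by
    have h1 : g.1.right = 1 := g.2
    change g.1.left * φ g.1.right h.1.left = _
    rw [h1, map_one]
    rfl

theorem lf_surj : Function.Surjective (lf (φ := φ)) := fun x => ⟨⟨SemidirectProduct.inl x, rfl⟩, rfl⟩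

theorem lf_conj (g : H ⋊[φ] P) (n : NS φ) :
    lf ⟨g * n.1 * g⁻¹, normal_NS.conj_mem n.1 n.2 g⟩ = g.left * φ g.right (lf n) * g.left⁻¹ := by
  have h1 : n.1.right = 1 := n.2
  change (g * n.1 * g⁻¹).left = g.left * φ g.right n.1.left * g.left⁻¹
  simp only [h1, _root_.SemidirectProduct.mul_left, _root_.SemidirectProduct.mul_right, _root_.mul_one, _root_.SemidirectProduct.inv_left, _root_.map_inv, _root_.MulAut.inv_apply, _root_.MulEquiv.apply_symm_apply]

theorem inv_NS (hθ : IsClassFunction H θ) (hinv : ∀ p x, θ (φ p x) = θ x) (g : H ⋊[φ] P) (n : NS φ) :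
    (θ ∘ lf) ⟨g * n.1 * g⁻¹, normal_NS.conj_mem n.1 n.2 g⟩ = (θ ∘ lf) n := by
  rw [Function.comp, Function.comp, lf_conj, hθ, hinv]

theorem exS_of_NS {χ : H ⋊[φ] P → ℂ} (hχ : IsCharacter _ χ) (h : ∀ n : NS φ, χ n = (θ ∘ lf) n) : ExS φ θ :=
  ⟨χ, hχ, fun x => h ⟨SemidirectProduct.inl x, rfl⟩⟩

variable [Finite H] [Finite P]

theorem finite_sd : Finite (H ⋊[φ] P) := Finite.of_equiv _ (SemidirectProduct.equivProd (φ := φ)).symm

/-- **coprime degree** -/
theorem exS_coprime (hθ : IsIrrCharacter H θ) (hinv : ∀ p x, θ (φ p x) = θ x) {d : ℕ} (hd : θ 1 = d)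
    (hc : (Nat.card P).Coprime d) : ExS φ θ := by
  have := finite_sd (φ := φ)
  have := normal_NS (φ := φ)
  have h1 := isIrr_isCharacter hθ
  have h2 : ∀ p x, ODD.Red.dH θ (φ p x) = ODD.Red.dH θ x := fun p x => by
    rw [← show ODD.Red.dH (fun x => θ ((φ p).toMonoidHom x)) x = ODD.Red.dH θ (φ p x) from ODD.Red.dH_comp (φ p).toMonoidHom h1 x]
    exact congrArg (fun f => ODD.Red.dH f x) (funext (hinv p))
  let μ : H ⋊[φ] P →* ℂˣ := MonoidHom.mk' (fun g => ODD.Red.dH θ g.left) fun g h => by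
    rw [SemidirectProduct.mul_left, map_mul, h2]
  obtain ⟨χ, hχ, hr⟩ := (S0866.result (NS φ) _ (isIrr_comp lf lf_surj hθ) (inv_NS (isIrr_isClassFunction hθ) hinv) d
    (by rw [Function.comp, map_one, hd]) (by rw [index_NS]; exact hc)).2
    ⟨fun g => μ g, Characters.Linear.isCharacter_hom μ, by simp, fun n => by
      rw [← ODD.Red.dH_eq_detChar (isCharacter_comp lf h1)]
      exact congrArg Units.val (ODD.Red.dH_comp lf h1 n).symm⟩
  exact exS_of_NS (isIrr_isCharacter hχ) hr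

/-- **cyclic groups** -/
theorem exS_cyc [IsCyclic P] (hθ : IsIrrCharacter H θ) (hinv : ∀ p x, θ (φ p x) = θ x) : ExS φ θ := by
  have := finite_sd (φ := φ)
  have := normal_NS (φ := φ)
  have hc : IsCyclic ((H ⋊[φ] P) ⧸ NS φ) :=
    isCyclic_of_surjective (QuotientGroup.quotientKerEquivOfSurjective _
      (SemidirectProduct.rightHom_surjective (φ := φ))).symm (MulEquiv.surjective _)
  obtain ⟨χ, hχ, hr⟩ := S0886.result (NS φ) hc _ (isIrr_comp lf lf_surj hθ) (inv_NS (isIrr_isClassFunction hθ) hinv)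
  exact exS_of_NS (isIrr_isCharacter hχ) hr

end exs

variable {X : Type} [Group X] [Finite X] {Λ S : Subgroup (MulAut X)} {θ : X → ℂ} {ψ : In Λ → ℂ}

theorem oi_deg {G : Type} [Group G] {χ : G → ℂ} (h : OI G χ) : ∃ d : ℕ, Odd d ∧ χ 1 = d := by
  obtain ⟨d, -, hd⟩ := isIrr_apply_one h.1
  have h2 := h.2
  rw [charDegree, hd, Complex.natCast_re, Nat.floor_natCast] at h2
  exact ⟨d, h2, hd⟩

omit [Finite X] in
/-- transport by an element of `Λ` -/
theorem _root_.Cfsg.Agent.MK.ExtOn.conj {T : Subgroup (MulAut X)} (h : ExtOn Λ T θ ψ) (δ : Λ)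
    (hS : ∀ α ∈ S, δ.1 * α * δ.1⁻¹ ∈ T) : ExtOn Λ S (fun x => θ (δ.1 x)) fun y => ψ (rs Λ δ y) := by
  obtain ⟨A, _, j, t, Ψ, hΨ, hj, rel, inn⟩ := h
  let c : S →* T := MonoidHom.mk' (fun α => ⟨_, hS α.1 α.2⟩) fun α β => Subtype.ext (by simp only [mul_assoc, _root_.Subgroup.coe_mul, _root_.MulMemClass.mk_mul_mk, _root_.inv_mul_cancel_left])
  refine ⟨A, inferInstance, j.comp (δ.1.toMonoidHom.prodMap (rs Λ δ).toMonoidHom), t.comp c, Ψ, hΨ, fun x y => hj _ _,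
    fun α x y y' hy => ?_, fun y hy => ?_⟩
  · have h1 := rel (c α) (δ.1 x) (rs Λ δ y) (rs Λ δ y') (by rw [rs_coe, rs_coe, hy]; simp only [c, _root_.MonoidHom.mk'_apply, _root_.MulAut.mul_apply, _root_.MulAut.inv_apply, _root_.MulEquiv.symm_apply_apply])
    have h2 : (c α).1 (δ.1 x) = δ.1 (α.1 x) := by simp only [c, _root_.MonoidHom.mk'_apply, _root_.MulAut.mul_apply, _root_.MulAut.inv_apply, _root_.MulEquiv.symm_apply_apply]
    rw [h2] at h1
    exact h1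
  · have h1 : MulAut.conj ((rs Λ δ y : In Λ) : X) = δ.1 * MulAut.conj (y : X) * δ.1⁻¹ := conj_map _ _
    have h2 : c ⟨_, hy⟩ = ⟨_, h1 ▸ hS _ hy⟩ := Subtype.ext h1.symm
    exact (congrArg t h2).trans (inn (rs Λ δ y) _)

end Cfsg.Agent.MK.E

private theorem dce_5062e5418f4c : _root_.True := by
  try have : _root_.True := by simp only [_root_.Cfsg.Agent.MK.E.NS.eq_1]
  exact _root_.True.intro
end

-- part: MK/E/Mult
section
set_option linter.all false
open scoped Cfsg.Agent.FastGrp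

/-!
# MK/E: extension from a multiplicity prime to `r` (helper75)

* `ext_of_mult` : `G / N` an `r`-group, `θ` invariant, a character of `G` contains `θ` with a multiplicity prime to `r`;
* `exS_mult`, `exS_lin` : semidirect products; an invariant linear character of an invariant subgroup.
-/

set_option autoImplicit false

namespace Cfsg.Agent.MK.E

open Cfsg Subgroup Cfsg.Agent.MK Cfsg.Agent.Characters.Core
open scoped ComplexConjugate

theorem ext_of_mult {G : Type} [Group G] [Fintype G] (N : Subgroup G) [hN : N.Normal] [Fintype N] {r k : ℕ}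
    (hr : r.Prime) (hk : N.index = r ^ k) {θ : N → ℂ} (hθ : IsIrrCharacter N θ)
    (hinv : ∀ (g : G) (n : N), θ ⟨g * n * g⁻¹, hN.conj_mem (n : G) n.2 g⟩ = θ n) {Ξ : G → ℂ} (hΞ : IsCharacter G Ξ)
    {m : ℕ} (hm : classInner (fun n : N => Ξ n) θ = m) (hrm : ¬ r ∣ m) :
    ∃ χ : G → ℂ, IsIrrCharacter G χ ∧ ∀ n : N, χ n = θ n := by
  have := finite_irr (G := G)
  have := Fintype.ofFinite (IrrCharacter G)
  obtain ⟨a, ha⟩ := exists_nat_comb hΞ
  have h1 : ∀ χ : IrrCharacter G, ∃ e : ℕ, classInner (fun n : N => χ.1 n) θ = e := fun χ =>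
    classInner_isNat (Characters.Clifford.isCharacter_restrict N (isIrr_isCharacter χ.2)) (isIrr_isCharacter hθ)
  choose e he using h1
  have h2 : m = ∑ χ, a χ * e χ := by
    have h3 : (fun n : N => Ξ n) = ∑ χ : IrrCharacter G, (a χ : ℂ) • fun n : N => χ.1 n := by
      funext n
      rw [ha]
      simp
    rw [h3, classInner_sum_left] at hm
    simp only [classInner_smul_left, he] at hm
    exact_mod_cast hm.symm
  obtain ⟨χ, hχ⟩ : ∃ χ, ¬ r ∣ e χ := by
    by_contra h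
    push Not at h
    exact hrm (h2 ▸ Finset.dvd_sum fun χ _ => (h χ).mul_left _)
  have h0 : classInner (fun n : N => χ.1 n) θ ≠ 0 := by
    rw [he]
    exact Nat.cast_ne_zero.2 fun h => hχ (h ▸ dvd_zero r)
  obtain ⟨e', he'⟩ := S0900.restrict_eq_smul N χ.1 χ.2 θ hθ h0 hinv
  have h4 : e' = e χ := by
    have h5 := he χ
    rw [he', classInner_smul_left, classInner_irr_self hθ, mul_one] at h5
    exact_mod_cast h5
  obtain ⟨d, hd0, hd⟩ := isIrr_apply_one hθ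
  have h5 : χ.1 1 = (e' * d : ℕ) := by
    have h6 := congrFun he' 1
    rw [Pi.smul_apply, hd, smul_eq_mul] at h6
    rw [Nat.cast_mul]
    exact h6
  have h6 := (S0887.result N χ.1 χ.2 θ hθ h0 _ _ h5 hd).2
  rw [Nat.mul_div_cancel _ hd0, hk, h4] at h6
  have h7 : e χ = 1 := Nat.Coprime.eq_one_of_dvd (((Nat.Prime.coprime_iff_not_dvd hr).2 hχ).symm.pow_right k) h6
  refine ⟨χ.1, χ.2, fun n => ?_⟩
  have h8 := congrFun he' n
  rwa [h4, h7, Nat.cast_one, one_smul] at h8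

variable {H P : Type} [Group H] [Group P] {φ : P →* MulAut H} {θ : H → ℂ}

/-- the normal factor is isomorphic to `H` -/
def lfE : NS φ ≃* H :=
  { lf (φ := φ) with
    invFun := fun x => ⟨SemidirectProduct.inl x, rfl⟩
    left_inv := fun g => Subtype.ext (SemidirectProduct.ext rfl (Eq.symm g.2))
    right_inv := fun _ => rfl }

theorem exS_mult [Fintype H] [Finite P] {r : ℕ} (hr : r.Prime) (hP : IsPGroup r P) (hθ : IsIrrCharacter H θ)
    (hinv : ∀ p x, θ (φ p x) = θ x) {Ξ : H ⋊[φ] P → ℂ} (hΞ : IsCharacter _ Ξ) {m : ℕ}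
    (hm : classInner (fun x => Ξ (SemidirectProduct.inl x)) θ = m) (hrm : ¬ r ∣ m) : ExS φ θ := by
  have := finite_sd (φ := φ)
  have := Fintype.ofFinite (H ⋊[φ] P)
  have := Fintype.ofFinite (NS φ)
  have := normal_NS (φ := φ)
  have := Fact.mk hr
  obtain ⟨k, hk⟩ := IsPGroup.iff_card.1 hP
  obtain ⟨χ, hχ, h⟩ := ext_of_mult (NS φ) hr (index_NS.trans hk) (isIrr_comp lf lf_surj hθ)
    (inv_NS (isIrr_isClassFunction hθ) hinv) hΞ (m := m) (by
      rw [← hm, ← Characters.Clifford.classInner_comp_mulEquiv (lfE (φ := φ))]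
      congr 1
      funext n
      exact congrArg Ξ (congrArg Subtype.val ((lfE (φ := φ)).symm_apply_apply n)).symm) hrm
  exact exS_of_NS (isIrr_isCharacter hχ) h

/-- **an invariant linear character of an invariant subgroup with a multiplicity prime to `r`** -/
theorem exS_lin [Finite H] [Finite P] {r : ℕ} (hr : r.Prime) (hP : IsPGroup r P) (hθ : IsIrrCharacter H θ)
    (hinv : ∀ p x, θ (φ p x) = θ x) (U : Subgroup H) [Fintype U] (hU : ∀ p, ∀ u ∈ U, φ p u ∈ U) (lam : U →* ℂˣ)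
    (hl : ∀ p (u : U), lam ⟨φ p u, hU p u u.2⟩ = lam u) {m : ℕ}
    (hm : classInner (fun u : U => θ u) (fun u => lam u) = m) (hrm : ¬ r ∣ m) : ExS φ θ := by
  classical
  have := finite_sd (φ := φ)
  have := Fintype.ofFinite (H ⋊[φ] P)
  have := Fintype.ofFinite H
  have := Fintype.ofFinite P
  let V : Subgroup (H ⋊[φ] P) :=
    { carrier := {g | g.left ∈ U}
      one_mem' := U.one_mem
      mul_mem' := fun ha hb => mul_mem ha (hU _ _ hb)
      inv_mem' := fun ha => hU _ _ (inv_mem ha) }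
  have := Fintype.ofFinite V
  let L : V →* ℂˣ := MonoidHom.mk' (fun g => lam ⟨g.1.left, g.2⟩) fun g h => by
    rw [← hl g.1.right ⟨h.1.left, h.2⟩, ← map_mul]
    rfl
  let f : H ⋊[φ] P → ℂ := fun g => if g.right = 1 then θ g.left else 0
  have hf : IsClassFunction _ f := by
    intro g h
    by_cases h1 : g.right = 1
    · have h2 : (h * g * h⁻¹).right = 1 := by simp [h1]
      simp only [f, if_pos h1, if_pos h2]
      exact inv_NS (isIrr_isClassFunction hθ) hinv h ⟨g, h1⟩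
    · have h2 : ¬ (h * g * h⁻¹).right = 1 := by simpa using h1
      simp only [f, if_neg h1, if_neg h2]
  have h1 := CharactersDeep.IndFun.classInner_indFun V (fun g => (L g : ℂ)) f hf
  let e : V ≃ U × P :=
    { toFun := fun g => (⟨g.1.left, g.2⟩, g.1.right)
      invFun := fun u => ⟨⟨u.1, u.2⟩, u.1.2⟩
      left_inv := fun _ => rfl
      right_inv := fun _ => rfl }
  have hp : (Nat.card P : ℂ) ≠ 0 := card_ne_zero_complex
  refine exS_mult hr hP hθ hinv (CharactersDeep.IndFun.isCharacter_indFun V (Characters.Linear.isCharacter_hom L))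
    (m := m) ?_ hrm
  have h2 : classInner (fun g : V => (L g : ℂ)) (fun g : V => f g) = (Nat.card P : ℂ)⁻¹ * m := by
    have h3 : (m : ℂ) = classInner (fun u : U => (lam u : ℂ)) fun u : U => θ u := by
      rw [← classInner_conj_symm, hm, Complex.conj_natCast]
    rw [h3, classInner_def, classInner_def, Nat.card_congr e, Nat.card_prod, ← e.symm.sum_comp, Fintype.sum_prod_type,
      Nat.cast_mul, mul_inv, ← mul_assoc, mul_comm (Nat.card P : ℂ)⁻¹]
    congr 1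
    refine Finset.sum_congr rfl fun u _ => ?_
    rw [Finset.sum_eq_single 1 (fun p _ hp => by simp [f, e, hp]) (by simp)]
    simp [f, e, L]
  have h3 : ∀ Ξ : H ⋊[φ] P → ℂ, classInner Ξ f =
      (Nat.card P : ℂ)⁻¹ * classInner (fun x => Ξ (SemidirectProduct.inl x)) θ := by
    intro Ξ
    rw [classInner_def, classInner_def, Nat.card_congr (SemidirectProduct.equivProd (φ := φ)), Nat.card_prod,
      ← (SemidirectProduct.equivProd (φ := φ)).symm.sum_comp, Fintype.sum_prod_type,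
      Nat.cast_mul, mul_inv, ← mul_assoc, mul_comm (Nat.card P : ℂ)⁻¹]
    congr 1
    refine Finset.sum_congr rfl fun u _ => ?_
    rw [Finset.sum_eq_single 1 (fun p _ hp => by simp [f, hp]) (by simp)]
    simp only [f, SemidirectProduct.equivProd_symm_apply_right, if_pos, SemidirectProduct.equivProd_symm_apply_left]
    rfl
  rw [h2, h3] at h1
  exact mul_left_cancel₀ (inv_ne_zero hp) h1

end Cfsg.Agent.MK.E
end

-- part: MK/Steps
section
set_option linter.all false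

/-!
# MK: all general steps (helper17)
-/

set_option autoImplicit false

namespace Cfsg.Agent.MK

theorem steps : Steps where
  i := H.stepI
  y := H.stepY Y.core
  c := C.stepC
  cyc := E.stepCyc C.stepC
  sm := E.stepSm (E.stepCyc C.stepC)
  core := Y.core

end Cfsg.Agent.MK
end
end
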